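import Groth.Agent.HopfLiftLib.Weights
import Groth.Agent.CommAlgDim.LocPD
import Mathlib.LinearAlgebra.Matrix.NonsingularInverse
import Mathlib.RingTheory.HopfAlgebra.Convolution

set_option autoImplicit false

/-!
Matrix corepresentations containing given elements, over regular rings of dimension at most two.
-/

noncomputable section

universe u

open scoped TensorProduct

namespace Groth.Agent.HopfMatrix

variable {R : Type u} [CommRing R]

theorem ringKrullDim_localization_le {n : WithBot ℕ∞} (hdim : ringKrullDim R ≤ n) (p : Ideal R) [p.IsPrime] :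
    ringKrullDim (Localization.AtPrime p) ≤ n := by
  rw [IsLocalization.AtPrime.ringKrullDim_eq_height p]
  exact (Ideal.height_le_ringKrullDim_of_ne_top (Ideal.IsPrime.ne_top inferInstance)).trans hdim

/-- Kernels of maps of finite free modules are projective over regular rings of dimension at most two. -/
theorem projective_ker [IsRegularRing R] (hdim : ringKrullDim R ≤ 2) {a b : ℕ}
    (h : (Fin a → R) →ₗ[R] (Fin b → R)) : Module.Projective R (LinearMap.ker h) := by
  haveI : Module.FinitePresentation R (LinearMap.ker h) := Module.finitePresentation_of_finite R _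
  refine Module.projective_of_localization_maximal fun m hm => ?_
  let p : PrimeSpectrum R := ⟨m, hm.isPrime⟩
  haveI := hm.isPrime
  haveI := IsRegularRing.isRegularLocalRing_localization m
  have hle : (IsLocalRing.maximalIdeal (Localization.AtPrime m)).spanFinrank ≤ 2 := by
    have h1 := ringKrullDim_localization_le hdim m
    rw [← (IsRegularLocalRing.spanFinrank_maximalIdeal (R := Localization.AtPrime m))] at h1
    exact_mod_cast h1
  let S := p.asIdeal.primeCompl
  have h3 : CommAlgDim.PDLTAt R ((Fin b → R) ⧸ LinearMap.range h) p (1 + 2) :=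
    (CommAlgDim.pdlt_of_isRegularLocalRing (Localization.AtPrime m) _).mono (by omega)
  have h2 : CommAlgDim.PDLTAt R (LinearMap.ker (LinearMap.range h).mkQ) p (0 + 2) :=
    (CommAlgDim.pdltAt_ker_iff _ (Submodule.mkQ_surjective _) p 1).1 h3
  let h' : (Fin a → R) →ₗ[R] LinearMap.ker (LinearMap.range h).mkQ :=
    h.codRestrict _ fun x => by simp
  have hs : Function.Surjective h' := fun y => by
    obtain ⟨y, hy⟩ := y
    rw [Submodule.ker_mkQ] at hy
    obtain ⟨x, rfl⟩ := hy
    exact ⟨x, rfl⟩
  have h1 : CommAlgDim.PDLTAt R (LinearMap.ker h') p 1 := (CommAlgDim.pdltAt_ker_iff h' hs p 0).1 h2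
  rw [show LinearMap.ker h' = LinearMap.ker h from LinearMap.ker_codRestrict _ _ _, CommAlgDim.PDLTAt,
    CommAlgDim.pdlt_one_iff] at h1
  exact h1

variable {A : Type u} [CommRing A] [HopfAlgebra R A] [Module.Flat R A]

/-- Every finite set lies in the algebra of a matrix corepresentation. -/
theorem exists_matrix [IsRegularRing R] (hdim : ringKrullDim R ≤ 2) (F : Finset A) :
    ∃ (d : ℕ) (a : Matrix (Fin d) (Fin d) A),
      (∀ i j, CoalgebraStruct.comul (R := R) (a i j) = ∑ l, a i l ⊗ₜ[R] a l j) ∧
      (∀ i j, CoalgebraStruct.counit (R := R) (a i j) = if i = j then 1 else 0) ∧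
      (↑F : Set A) ⊆ Submodule.span R (Set.range (fun p : Fin d × Fin d => a p.1 p.2) ∪ {1}) := by
  classical
  -- a finitely generated subcomodule
  choose N' Q' hN'fg hQ'fg hmem hN' using fun f : A => HopfLift.exists_fg_subcomodule (R := R) f
  let N : Submodule R A := F.sup N'
  have hNfg : N.FG := Finset.sup_induction Submodule.fg_bot (fun _ h _ h' => h.sup h') fun f _ => hN'fg f
  have hFN : ∀ f ∈ F, f ∈ N := fun f hf => (Finset.le_sup (f := N') hf) (hmem f)
  have hcom : ∀ x ∈ N, Coalgebra.comul (R := R) x ∈ LinearMap.range (LinearMap.rTensor A N.subtype) := by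
    have hle : N ≤ (LinearMap.range (LinearMap.rTensor A N.subtype)).comap Coalgebra.comul := by
      refine Finset.sup_le fun f hf x hx => ?_
      obtain ⟨z, hz⟩ := hN' f x hx
      refine ⟨TensorProduct.map (Submodule.inclusion (Finset.le_sup (f := N') hf)) (Q' f).subtype z, ?_⟩
      rw [← hz, ← LinearMap.comp_apply, LinearMap.rTensor_comp_map, Submodule.subtype_comp_inclusion]
    exact fun x hx => hle hx
  have hinjN : Function.Injective (LinearMap.rTensor A N.subtype) :=
    Module.Flat.rTensor_preserves_injective_linearMap _ Subtype.val_injective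
  let ρ : N →ₗ[R] N ⊗[R] A := (LinearEquiv.ofInjective _ hinjN).symm.toLinearMap ∘ₗ
    (Coalgebra.comul ∘ₗ N.subtype).codRestrict _ fun x => hcom x x.2
  have hρ : ∀ n, LinearMap.rTensor A N.subtype (ρ n) = Coalgebra.comul (R := R) (n : A) := fun n => by
    show ((LinearEquiv.ofInjective _ hinjN) (ρ n) : A ⊗[R] A) = _
    simp [ρ]
  -- presentation
  haveI : Module.Finite R N := Module.Finite.iff_fg.2 hNfg
  obtain ⟨a, g, hg⟩ := Module.Finite.exists_fin' R N
  obtain ⟨b, r, hr⟩ := Module.Finite.exists_fin' R (LinearMap.ker g)
  let rel : Fin b → (Fin a → R) := fun k => ((r (Pi.single k 1) : LinearMap.ker g) : Fin a → R)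
  let h : (Fin a → R) →ₗ[R] (Fin b → R) :=
    LinearMap.pi fun k => ∑ i, rel k i • LinearMap.proj i
  let D := LinearMap.ker h
  haveI : Module.Projective R D := projective_ker hdim h
  haveI : Module.Finite R D := Module.Finite.iff_fg.2 (IsNoetherian.noetherian _)
  obtain ⟨d, p, hp⟩ := Module.Finite.exists_fin' R D
  obtain ⟨s, hs⟩ := Module.projective_lifting_property p LinearMap.id hp
  have hsum : ∀ x : D, ∑ l, s x l • p (Pi.single l 1) = x := fun x => by
    conv_rhs => rw [← LinearMap.id_apply (R := R) x, ← hs, LinearMap.comp_apply, pi_eq_sum_univ' (s x), map_sum]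
    exact Finset.sum_congr rfl fun l _ => (map_smul p _ _).symm
  let q : Fin d → D := fun l => p (Pi.single l 1)
  -- functionals
  have hfun : ∀ x : D, ∃ φ : N →ₗ[R] R, ∀ i, φ (g (Pi.single i 1)) = (x : Fin a → R) i := by
    intro x
    let ψ : (Fin a → R) →ₗ[R] R := ∑ i, (x : Fin a → R) i • LinearMap.proj i
    have hker : LinearMap.ker g ≤ LinearMap.ker ψ := by
      intro v hv
      obtain ⟨w, hw⟩ := hr ⟨v, hv⟩
      have hv' : v = ∑ k, w k • rel k := by
        have := congrArg (fun z : LinearMap.ker g => (z : Fin a → R)) hw
        rw [pi_eq_sum_univ' w, map_sum] at this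
        simp only [map_smul, Submodule.coe_sum, Submodule.coe_smul] at this
        exact this.symm
      rw [LinearMap.mem_ker, hv', map_sum]
      refine Finset.sum_eq_zero fun k _ => ?_
      rw [map_smul]
      have hx : h (x : Fin a → R) k = 0 := congrFun (LinearMap.mem_ker.1 x.2) k
      simp only [h, LinearMap.pi_apply, LinearMap.coe_sum, Finset.sum_apply, LinearMap.smul_apply,
        LinearMap.proj_apply, smul_eq_mul] at hx
      simp only [ψ, LinearMap.coe_sum, Finset.sum_apply, LinearMap.smul_apply, LinearMap.proj_apply, smul_eq_mul]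
      rw [show ∑ i, (x : Fin a → R) i * rel k i = ∑ i, rel k i * (x : Fin a → R) i from
        Finset.sum_congr rfl fun i _ => mul_comm _ _, hx, mul_zero]
    refine ⟨(LinearMap.ker g).liftQ ψ hker ∘ₗ (g.quotKerEquivOfSurjective hg).symm.toLinearMap, fun i => ?_⟩
    simp only [LinearMap.comp_apply, LinearEquiv.coe_coe,
      show (g.quotKerEquivOfSurjective hg).symm (g (Pi.single i 1)) = Submodule.Quotient.mk (Pi.single i 1) from
        (g.quotKerEquivOfSurjective hg).symm_apply_eq.2 rfl]
    simp [ψ, Finset.sum_apply, Pi.single_apply]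
  choose φ hφ using fun l => hfun (q l)
  -- injectivity
  have hinj : ∀ (V : Type u) [AddCommGroup V] [Module R V] [Module.Flat R V] (c : Fin d → V),
      (∀ i, ∑ l, (q l : Fin a → R) i • c l = 0) → ∀ k, ∑ l, s (q l) k • c l = 0 := by
    intro V _ _ _ c hc k
    have h0 : (∑ l, q l ⊗ₜ[R] c l : D ⊗[R] V) = 0 := by
      apply Module.Flat.rTensor_preserves_injective_linearMap (M := V) D.subtype Subtype.val_injective
      rw [map_zero]
      apply (TensorProduct.piScalarRight R R V (Fin a)).injective.comp (TensorProduct.comm R (Fin a → R) V).injective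
      funext i
      simp [hc i]
    have := congrArg (fun z => TensorProduct.lid R V (LinearMap.rTensor V ((LinearMap.proj k).comp s) z)) h0
    simpa using this
  let θ : Fin d → N →ₗ[R] A := fun j =>
    (TensorProduct.lid R A).toLinearMap ∘ₗ LinearMap.rTensor A (φ j) ∘ₗ ρ
  -- coefficients
  have hB : ∀ j, ∃ c : Fin d → A, ∀ i, θ j (g (Pi.single i 1)) = ∑ l, (q l : Fin a → R) i • c l := by
    intro j
    let v : (Fin a → R) ⊗[R] A := ∑ i, Pi.single i 1 ⊗ₜ[R] θ j (g (Pi.single i 1))
    have hv : LinearMap.rTensor A h v = 0 := by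
      apply (TensorProduct.piScalarRight R R A (Fin b)).injective.comp (TensorProduct.comm R (Fin b → R) A).injective
      funext k
      simp only [v, map_sum, LinearMap.rTensor_tmul, Function.comp_apply, TensorProduct.comm_tmul,
        TensorProduct.piScalarRight_apply, TensorProduct.piScalarRightHom_tmul, Finset.sum_apply]
      have h0 : θ j (g (rel k)) = 0 := by
        rw [show g (rel k) = 0 from LinearMap.mem_ker.1 (r (Pi.single k 1)).2, map_zero]
      rw [pi_eq_sum_univ' (rel k), map_sum, map_sum] at h0
      simp only [map_smul] at h0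
      refine Eq.trans (Finset.sum_congr rfl fun i _ => ?_) (h0.trans (by simp))
      simp [h, Finset.sum_apply, Pi.single_apply]
    obtain ⟨z, hz⟩ := ((Module.Flat.rTensor_exact A (LinearMap.exact_subtype_ker_map h)) v).1 hv
    refine ⟨fun l => TensorProduct.lid R A (LinearMap.rTensor A ((LinearMap.proj l).comp s) z), fun i => ?_⟩
    have hzi : ∀ z : D ⊗[R] A, TensorProduct.lid R A (LinearMap.rTensor A ((LinearMap.proj i).comp D.subtype) z) =
        ∑ l, (q l : Fin a → R) i • TensorProduct.lid R A (LinearMap.rTensor A ((LinearMap.proj l).comp s) z) := by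
      intro z
      induction z using TensorProduct.induction_on with
      | zero => simp
      | add x y hx hy => simp only [map_add, hx, hy, smul_add, Finset.sum_add_distrib]
      | tmul x c =>
        simp only [LinearMap.rTensor_tmul, TensorProduct.lid_tmul, LinearMap.comp_apply, LinearMap.proj_apply,
          Submodule.subtype_apply, smul_smul, ← Finset.sum_smul]
        congr 1
        conv_lhs => rw [← hsum x]
        simp [Finset.sum_apply, q, mul_comm]
    rw [← hzi]
    have hc := congrArg (fun w => TensorProduct.lid R A (LinearMap.rTensor A (LinearMap.proj i) w)) hz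
    simp only [← LinearMap.comp_apply (LinearMap.rTensor A (LinearMap.proj i)), ← LinearMap.rTensor_comp] at hc
    refine Eq.trans ?_ hc.symm
    simp [v, Pi.single_apply]
  choose c hc using hB
  let E : Fin d → Fin d → R := fun l k => s (q l) k
  let β : Fin d → Fin d → A := fun j k => ∑ l, E l k • c j l
  have hEE : ∀ j k, ∑ l, E j l * E l k = E j k := fun j k => by
    have := congrArg (fun x => s x k) (hsum (q j))
    simpa [E, q, Finset.sum_apply] using this
  have hβ : ∀ j i, θ j (g (Pi.single i 1)) = ∑ l, (q l : Fin a → R) i • β j l := by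
    intro j i
    have hq : ∀ m, ∑ l, E m l * (q l : Fin a → R) i = (q m : Fin a → R) i := fun m => by
      have := congrArg (fun x : D => (x : Fin a → R) i) (hsum (q m))
      simpa [E, q, Finset.sum_apply] using this
    rw [hc]
    simp only [β, Finset.smul_sum, smul_smul]
    rw [Finset.sum_comm]
    refine Finset.sum_congr rfl fun m _ => ?_
    rw [← Finset.sum_smul]
    conv_lhs => rw [← hq m]
    congr 1
    exact Finset.sum_congr rfl fun l _ => mul_comm _ _
  have hβE : ∀ j k, ∑ l, E l k • β j l = β j k := fun j k => by
    simp only [β, Finset.smul_sum, smul_smul]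
    rw [Finset.sum_comm]
    refine Finset.sum_congr rfl fun m _ => ?_
    rw [← Finset.sum_smul, show ∑ l, E l k * E m l = ∑ l, E m l * E l k from
      Finset.sum_congr rfl fun l _ => mul_comm _ _, hEE]
  have hθall : ∀ j (n : N), θ j n = ∑ l, φ l n • β j l := by
    intro j
    have e : θ j ∘ₗ g = (∑ l, (φ l).smulRight (β j l)) ∘ₗ g := LinearMap.pi_ext' fun i => by
      refine LinearMap.ext_ring ?_
      simp [hβ, hφ, Finset.sum_apply]
    intro n
    obtain ⟨v, rfl⟩ := hg n
    have := LinearMap.congr_fun e v
    simpa [Finset.sum_apply] using this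
  have hφE : ∀ j (n : N), ∑ l, E j l * φ l n = φ j n := by
    intro j
    have e : (∑ l, E j l • φ l) ∘ₗ g = φ j ∘ₗ g := LinearMap.pi_ext' fun i => by
      refine LinearMap.ext_ring ?_
      have := congrArg (fun x : D => (x : Fin a → R) i) (hsum (q j))
      simpa [hφ, E, q, Finset.sum_apply] using this
    intro n
    obtain ⟨v, rfl⟩ := hg n
    have := LinearMap.congr_fun e v
    simpa [Finset.sum_apply] using this
  have hzero : ∀ {V : Type u} [AddCommGroup V] [Module R V] [Module.Flat R V] (x : Fin d → V),
      (∀ n : N, ∑ l, φ l n • x l = 0) → ∀ k, ∑ l, E l k • x l = 0 := fun {V} _ _ _ x hx k => by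
    refine hinj V x (fun i => ?_) k
    simpa [hφ] using hx (g (Pi.single i 1))
  have hEβ : ∀ j k, ∑ l, E j l • β l k = β j k := by
    intro j k
    have h1 := hzero (fun l => (∑ m, E j m • β m l) - β j l) (fun n => by
      simp only [smul_sub, Finset.sum_sub_distrib, sub_eq_zero, Finset.smul_sum, smul_smul]
      rw [Finset.sum_comm, ← hθall]
      have e : ∑ m, E j m • θ m n = θ j n := by
        have := congrArg (fun ψ : N →ₗ[R] R => TensorProduct.lid R A (LinearMap.rTensor A ψ (ρ n)))
          (show ∑ m, E j m • φ m = φ j from LinearMap.ext fun n => by simpa [Finset.sum_apply] using hφE j n)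
        simpa [θ, LinearMap.rTensor_smul, map_sum, Finset.sum_apply,
          show LinearMap.rTensor A (∑ m, E j m • φ m) = ∑ m, E j m • LinearMap.rTensor A (φ m) by
            simp [← LinearMap.coe_rTensorHom, map_sum]] using this
      rw [← e]
      refine Finset.sum_congr rfl fun m _ => ?_
      rw [hθall, Finset.smul_sum]
      exact Finset.sum_congr rfl fun l _ => by rw [smul_smul, mul_comm]) k
    simp only [smul_sub, Finset.sum_sub_distrib, sub_eq_zero, hβE] at h1
    have h2 : ∑ l, E l k • ∑ m, E j m • β m l = ∑ m, E j m • ∑ l, E l k • β m l := by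
      simp only [Finset.smul_sum]
      rw [Finset.sum_comm]
      exact Finset.sum_congr rfl fun m _ => Finset.sum_congr rfl fun l _ => smul_comm _ _ _
    rw [h2] at h1
    simpa only [hβE] using h1
  have hΔ : ∀ j k, Coalgebra.comul (R := R) (β j k) = ∑ l, β j l ⊗ₜ[R] β l k := by
    intro j k
    have h1 := hzero (fun l => Coalgebra.comul (R := R) (β j l) - ∑ m, β j m ⊗ₜ[R] β m l) (fun n => by
      simp only [smul_sub, Finset.sum_sub_distrib, sub_eq_zero]
      rw [← Finset.sum_congr rfl fun l _ => map_smul (Coalgebra.comul (R := R) (A := A)) (φ l n) (β j l), ← map_sum,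
        ← hθall]
      let W : A ⊗[R] A →ₗ[R] (A ⊗[R] A) := LinearMap.id
      have hΔθ : ∀ z : N ⊗[R] A, Coalgebra.comul (R := R) (TensorProduct.lid R A (LinearMap.rTensor A (φ j) z)) =
          TensorProduct.lid R (A ⊗[R] A) (LinearMap.rTensor (A ⊗[R] A) (φ j) (LinearMap.lTensor N Coalgebra.comul z)) :=
        fun z => by
          induction z using TensorProduct.induction_on with
          | zero => simp
          | add x y hx hy => simp only [map_add, hx, hy]
          | tmul x c => simp
      have hco : LinearMap.lTensor N Coalgebra.comul (ρ n) =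
          TensorProduct.assoc R N A A (LinearMap.rTensor A ρ (ρ n)) := by
        apply Module.Flat.rTensor_preserves_injective_linearMap (M := A ⊗[R] A) N.subtype Subtype.val_injective
        have e1 : ∀ z : N ⊗[R] A, LinearMap.rTensor (A ⊗[R] A) N.subtype (LinearMap.lTensor N Coalgebra.comul z) =
            LinearMap.lTensor A Coalgebra.comul (LinearMap.rTensor A N.subtype z) := fun z => by
          induction z using TensorProduct.induction_on with
          | zero => simp
          | add x y hx hy => simp only [map_add, hx, hy]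
          | tmul x c => simp
        have e2 : ∀ z : (N ⊗[R] A) ⊗[R] A, LinearMap.rTensor (A ⊗[R] A) N.subtype (TensorProduct.assoc R N A A z) =
            TensorProduct.assoc R A A A (LinearMap.rTensor A (LinearMap.rTensor A N.subtype) z) := fun z => by
          induction z using TensorProduct.induction_on with
          | zero => simp
          | add x y hx hy => simp only [map_add, hx, hy]
          | tmul x c =>
            induction x using TensorProduct.induction_on with
            | zero => simp
            | add x y hx hy => simp only [TensorProduct.add_tmul, map_add, hx, hy]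
            | tmul x e => simp
        rw [e1, e2, hρ, ← LinearMap.comp_apply (LinearMap.rTensor A (LinearMap.rTensor A N.subtype)),
          ← LinearMap.rTensor_comp, show LinearMap.rTensor A N.subtype ∘ₗ ρ = Coalgebra.comul ∘ₗ N.subtype from
            LinearMap.ext hρ, LinearMap.rTensor_comp, LinearMap.comp_apply, hρ]
        exact (Coalgebra.coassoc_apply _).symm
      show Coalgebra.comul (R := R) (θ j n) = _
      simp only [θ, LinearMap.comp_apply, LinearEquiv.coe_coe]
      rw [hΔθ, hco]
      have e3 : ∀ z : N ⊗[R] A, TensorProduct.lid R (A ⊗[R] A) (LinearMap.rTensor (A ⊗[R] A) (φ j)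
          (TensorProduct.assoc R N A A (LinearMap.rTensor A ρ z))) =
          ∑ l, β j l ⊗ₜ[R] TensorProduct.lid R A (LinearMap.rTensor A (φ l) z) := fun z => by
        induction z using TensorProduct.induction_on with
        | zero => simp
        | add x y hx hy => simp only [map_add, hx, hy, TensorProduct.tmul_add, Finset.sum_add_distrib]
        | tmul x e =>
          simp only [LinearMap.rTensor_tmul, TensorProduct.lid_tmul, TensorProduct.tmul_smul, TensorProduct.smul_tmul']
          rw [← TensorProduct.sum_tmul, ← hθall]
          simp only [θ, LinearMap.comp_apply, LinearEquiv.coe_coe]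
          generalize ρ x = w
          induction w using TensorProduct.induction_on with
          | zero => simp
          | add x y hx hy => simp only [TensorProduct.add_tmul, map_add, hx, hy]
          | tmul u v => simp [TensorProduct.smul_tmul']
      rw [e3]
      simp only [Finset.smul_sum]
      rw [Finset.sum_comm]
      refine Finset.sum_congr rfl fun l _ => ?_
      show β j l ⊗ₜ[R] θ l n = _
      rw [hθall, TensorProduct.tmul_sum]
      simp only [TensorProduct.tmul_smul]) k
    simp only [smul_sub, Finset.sum_sub_distrib, sub_eq_zero] at h1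
    rw [← Finset.sum_congr rfl fun l _ => map_smul (Coalgebra.comul (R := R) (A := A)) (E l k) (β j l), ← map_sum,
      hβE] at h1
    rw [h1, Finset.sum_congr rfl fun l _ => Finset.smul_sum, Finset.sum_comm]
    refine Finset.sum_congr rfl fun m _ => ?_
    rw [← hβE m k, TensorProduct.tmul_sum]
    simp only [TensorProduct.tmul_smul]
  have hε : ∀ j k, Coalgebra.counit (R := R) (β j k) = E j k := by
    intro j k
    have h1 := hzero (fun l => Coalgebra.counit (R := R) (β j l) - if j = l then 1 else 0) (fun n => by
      simp only [smul_sub, mul_sub, Finset.sum_sub_distrib, sub_eq_zero, smul_eq_mul, mul_ite, mul_one, mul_zero,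
        Finset.sum_ite_eq, Finset.mem_univ, if_true]
      have e0 := congrArg (Coalgebra.counit (R := R) (A := A)) (hθall j n)
      simp only [map_sum, map_smul, smul_eq_mul] at e0
      rw [← e0]
      simp only [θ, LinearMap.comp_apply, LinearEquiv.coe_coe]
      have e1 : ∀ z : N ⊗[R] A, Coalgebra.counit (R := R) (TensorProduct.lid R A (LinearMap.rTensor A (φ j) z)) =
          φ j (TensorProduct.rid R N (LinearMap.lTensor N Coalgebra.counit z)) := fun z => by
        induction z using TensorProduct.induction_on with
        | zero => simp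
        | add x y hx hy => simp only [map_add, hx, hy]
        | tmul x e => simp [mul_comm]
      have e2 : TensorProduct.rid R N (LinearMap.lTensor N Coalgebra.counit (ρ n)) = n := by
        apply Subtype.ext
        have e : ∀ z : N ⊗[R] A, ((TensorProduct.rid R N (LinearMap.lTensor N Coalgebra.counit z) : N) : A) =
            TensorProduct.rid R A (LinearMap.lTensor A Coalgebra.counit (LinearMap.rTensor A N.subtype z)) := fun z => by
          induction z using TensorProduct.induction_on with
          | zero => simp
          | add x y hx hy => simp only [map_add, Submodule.coe_add, hx, hy]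
          | tmul x e => simp
        rw [e, hρ, Coalgebra.lTensor_counit_comul, TensorProduct.rid_tmul, one_smul]
      rw [e1, e2]) k
    simp only [smul_sub, Finset.sum_sub_distrib, sub_eq_zero] at h1
    rw [← Finset.sum_congr rfl fun l _ => map_smul (Coalgebra.counit (R := R) (A := A)) (E l k) (β j l), ← map_sum,
      hβE] at h1
    rw [h1]
    simp
  -- the free matrix
  let δ : Fin d → Fin d → R := fun i j => if i = j then 1 else 0
  let a' : Matrix (Fin d) (Fin d) A := fun i j => β i j + algebraMap R A (δ i j - E i j)
  have hβspan : ∀ i j, β i j ∈ Submodule.span R (Set.range (fun p : Fin d × Fin d => a' p.1 p.2) ∪ {1}) := fun i j => by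
    have h1 : a' i j ∈ Submodule.span R (Set.range (fun p : Fin d × Fin d => a' p.1 p.2) ∪ {1}) :=
      Submodule.subset_span (Or.inl ⟨(i, j), rfl⟩)
    have h2 : algebraMap R A (δ i j - E i j) ∈ Submodule.span R (Set.range (fun p : Fin d × Fin d => a' p.1 p.2) ∪ {1}) := by
      rw [Algebra.algebraMap_eq_smul_one]
      exact Submodule.smul_mem _ _ (Submodule.subset_span (Or.inr rfl))
    simpa [a'] using sub_mem h1 h2
  refine ⟨d, a', fun i j => ?_, fun i j => ?_, fun f hf => ?_⟩
  · let P : Fin d → Fin d → R := fun i j => δ i j - E i j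
    have z1 : ∑ l, β i l ⊗ₜ[R] algebraMap R A (P l j) = 0 := by
      have : ∀ l, β i l ⊗ₜ[R] algebraMap R A (P l j) = (P l j • β i l) ⊗ₜ[R] (1 : A) := fun l => by
        rw [Algebra.algebraMap_eq_smul_one, TensorProduct.tmul_smul, TensorProduct.smul_tmul']
      rw [Finset.sum_congr rfl fun l _ => this l, ← TensorProduct.sum_tmul]
      simp [P, δ, sub_smul, Finset.sum_sub_distrib, hβE, ite_smul]
    have z2 : ∑ l, algebraMap R A (P i l) ⊗ₜ[R] β l j = 0 := by
      have : ∀ l, algebraMap R A (P i l) ⊗ₜ[R] β l j = (1 : A) ⊗ₜ[R] (P i l • β l j) := fun l => by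
        rw [Algebra.algebraMap_eq_smul_one, TensorProduct.smul_tmul]
      rw [Finset.sum_congr rfl fun l _ => this l, ← TensorProduct.tmul_sum]
      simp [P, δ, sub_smul, Finset.sum_sub_distrib, hEβ, ite_smul]
    have z3 : ∑ l, algebraMap R A (P i l) ⊗ₜ[R] algebraMap R A (P l j) = algebraMap R A (P i j) ⊗ₜ[R] (1 : A) := by
      have : ∀ l, algebraMap R A (P i l) ⊗ₜ[R] algebraMap R A (P l j) = algebraMap R A (P i l * P l j) ⊗ₜ[R] (1 : A) :=
        fun l => by
          rw [Algebra.algebraMap_eq_smul_one (P l j), TensorProduct.tmul_smul, TensorProduct.smul_tmul',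
            Algebra.smul_def, ← map_mul, mul_comm]
      rw [Finset.sum_congr rfl fun l _ => this l, ← TensorProduct.sum_tmul, ← map_sum]
      congr 2
      simp [P, δ, sub_mul, mul_sub, Finset.sum_sub_distrib, hEE]
    show Coalgebra.comul (R := R) (β i j + algebraMap R A (P i j)) = _
    rw [map_add, hΔ, Bialgebra.comul_algebraMap, Algebra.TensorProduct.algebraMap_apply]
    show _ = ∑ l, (β i l + algebraMap R A (P i l)) ⊗ₜ[R] (β l j + algebraMap R A (P l j))
    simp only [TensorProduct.add_tmul, TensorProduct.tmul_add, Finset.sum_add_distrib, z1, z2, z3, add_zero, zero_add]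
  · show Coalgebra.counit (R := R) (β i j + algebraMap R A (δ i j - E i j)) = δ i j
    rw [map_add, hε, Bialgebra.counit_algebraMap]
    ring
  · let n : N := ⟨f, hFN f hf⟩
    let εN : N →ₗ[R] R := Coalgebra.counit ∘ₗ N.subtype
    have hεD : (fun i => εN (g (Pi.single i 1))) ∈ D := by
      rw [LinearMap.mem_ker]
      funext k
      simp only [h, LinearMap.pi_apply, LinearMap.coe_sum, Finset.sum_apply, LinearMap.smul_apply, LinearMap.proj_apply]
      have h0 : εN (g (rel k)) = 0 := by
        rw [show g (rel k) = 0 from LinearMap.mem_ker.1 (r (Pi.single k 1)).2, map_zero]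
      rw [pi_eq_sum_univ' (rel k), map_sum, map_sum] at h0
      simpa using h0
    let x : D := ⟨_, hεD⟩
    have e : εN = ∑ j, s x j • φ j := by
      refine LinearMap.ext fun n => ?_
      obtain ⟨v, rfl⟩ := hg n
      have e : εN ∘ₗ g = (∑ j, s x j • φ j) ∘ₗ g := LinearMap.pi_ext' fun i => by
        refine LinearMap.ext_ring ?_
        have := congrArg (fun y : D => (y : Fin a → R) i) (hsum x)
        simp only [Submodule.coe_sum, Submodule.coe_smul, Finset.sum_apply, Pi.smul_apply] at this
        simpa [hφ, Finset.sum_apply, q, x] using this.symm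
      exact LinearMap.congr_fun e v
    have hf' : f = ∑ j, s x j • θ j n := by
      have h1 := Coalgebra.rTensor_counit_comul (R := R) f
      rw [show f = (n : A) from rfl, ← hρ, ← LinearMap.comp_apply, ← LinearMap.rTensor_comp] at h1
      have h2 := congrArg (TensorProduct.lid R A) h1
      rw [TensorProduct.lid_tmul, one_smul, show (Coalgebra.counit ∘ₗ N.subtype) = εN from rfl, e] at h2
      refine h2.symm.trans ?_
      simp [θ, ← LinearMap.coe_rTensorHom, map_sum, Finset.sum_apply]
    rw [hf']
    refine Submodule.sum_mem _ fun j _ => Submodule.smul_mem _ _ ?_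
    rw [hθall]
    exact Submodule.sum_mem _ fun l _ => Submodule.smul_mem _ _ (hβspan j l)

end Groth.Agent.HopfMatrix
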